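import Cfsg.Agent.BZ.T.Loc
import Cfsg.Agent.KM.Easy
import Cfsg.Agent.BHZ.Exc.TF4
import Cfsg.Agent.H315.HT.TwFRow

/-!
# BZ: the rows of the Suzuki and Ree groups in cross characteristic (helper20)

`prin` follows the proof of `H315.HT.row_three`.
-/

set_option autoImplicit false

namespace Cfsg.Agent.BZ.X2

open Cfsg Cfsg.Lie Subgroup Cfsg.Agent.KM Cfsg.Agent.BZ.T Cfsg.Agent.BHZ.Spor
open Cfsg.Agent.LieRecognition.FeitHigmanGroup Cfsg.Agent.H315.CY Cfsg.Agent.H315.HT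
open Cfsg.Agent.H740.Eight.Hecke Cfsg.Agent.H740.Eight.HeckeDeg

theorem row_of_ab {X : Bad} {p : ℕ} [Fact p.Prime] {S : Type} [Group S]
    (h : ∀ P : Subgroup S, IsPGroup p P → IsMulCommutative P) : RowX X p S :=
  fun _ _ _ σ _ _ _ H => (H.nab_map (h _ (H.pg.map σ))).elim

theorem sz_of (X : Bad) : For (RowX X) CSz := fun _ _ _ _ _ _ _ h => row_of_ab fun P hP => by
  have := OddRank.SzTits.isCyclic_of_isPGroup h.2 h.1 P hP
  infer_instance

theorem ree_of (X : Bad) : For (RowX X) CRee := by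
  rintro p hp S _ _ _ - ⟨hp3, h⟩
  by_cases h2 : p = 2
  · subst h2
    obtain ⟨K, _, _, m, -, hK, ⟨e⟩⟩ := h
    have := Finite.of_equiv S e.toEquiv
    refine RowX.of_equiv e (row_of_ab fun P hP => ?_)
    obtain ⟨a, haH, ha1, ha2⟩ := S1157.exists_involution hK
    obtain ⟨Q, hQ⟩ := hP.exists_le_sylow
    have h3 := ((S1152.result hK a haH ha1 ha2).2 Q).2
    refine comm_of_forall fun x hx y hy => ?_
    have h4 := h3 _ (hQ (mul_mem hx hy))
    have h5 := h3 _ (hQ hx)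
    have h6 := h3 _ (hQ hy)
    calc x * y = (y * y) * (x * y) * (x * x) := by rw [h5, h6, one_mul, mul_one]
      _ = y * (y * x * (y * x)) * x := by group
      _ = y * x := by rw [h3 _ (hQ (mul_mem hy hx)), mul_one]
  · refine row_of_ab fun P hP => ?_
    have := hp.out.two_le
    have := H315.RatB0.isCyclic_ree h (by omega) P hP
    infer_instance

/-- a member of the principal `3`-block of degree divisible by `3` -/
theorem prin {K : Type} [Field K] [Fintype K] {m : ℕ} (hK : Fintype.card K = 2 ^ (2 * m + 1)) {M : Ideal AlgInt}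
    (hM : IsPModular 3 M) : ∃ χ ∈ principalBlock M ↥(twistedF4 K (2 ^ m)), 3 ∣ charDegree (χ : ↥(twistedF4 K (2 ^ m)) → ℂ) := by
  classical
  have h2 : Fact (Nat.Prime 2) := ⟨Nat.prime_two⟩
  obtain ⟨P, U, t, s, V, V', hsp, hS, h16, hV, hV', hcV, hcV', hcU, hcT⟩ :=
    Cfsg.Agent.H740.Eight.TwFTwo.exists_pair (K := K) (m := m) hK
  have hG := Cfsg.Agent.S1068.result hK
  have hfin : Finite ↥(twistedF4 K (2 ^ m)) := inferInstance
  have := Fintype.ofFinite (↥(twistedF4 K (2 ^ m)) ⧸ P.B)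
  have := Fintype.ofFinite ↥(twistedF4 K (2 ^ m))
  have hs : s ∈ P.S := by rw [hS]; exact Or.inr rfl
  have ht : t ∈ P.S := by rw [hS]; exact Or.inl rfl
  have hqt := q_eq hsp ht hV
  have hqs := q_eq hsp hs hV'
  have hcB := Cfsg.Agent.H740.Eight.TwFTwo.card_B hsp
  have hc1 := Cfsg.Agent.H978.BR.card_par hsp ht hV
  have hc2 := Cfsg.Agent.H978.BR.card_par hsp hs hV'
  have e0 : 2 ^ (2 * m + 1) = 2 * 4 ^ m := by rw [pow_succ, pow_mul]; norm_num; ring
  rw [e0] at hcV hcV' hcU hcT hG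
  rw [hcV] at hqt hc1
  rw [hcV'] at hqs hc2
  rw [hcU, hcT] at hcB
  have hd := deg_num m
  have hv := deg_val m
  set r : ℕ := 2 * 4 ^ m with hq
  have hq2 : 2 ≤ r := by
    have : 0 < 4 ^ m := by positivity
    omega
  have hBpos : 0 < Nat.card P.B := Nat.card_pos
  have hst : s ≠ t := by
    rintro rfl
    have h4 := Nat.eq_of_mul_eq_mul_left hBpos (hc1.symm.trans hc2)
    nlinarith
  have hidx : Nat.card (↥(twistedF4 K (2 ^ m)) ⧸ P.B) =
      (1 + r ^ 2) * (1 + r) * (1 + r ^ 2 * r) * (1 + (r ^ 2) ^ 2 * r ^ 2) := by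
    have h5 := P.B.card_mul_index
    rw [hG, hcB, P.B.index_eq_card] at h5
    obtain ⟨u, hu⟩ : ∃ u, r = u + 1 := ⟨r - 1, by omega⟩
    have hr1 : 0 < u := by omega
    have e1 : r - 1 = u := by omega
    have e2 : r ^ 4 - 1 = u * ((r + 1) * (r ^ 2 + 1)) := by
      have : r ^ 4 = u * ((r + 1) * (r ^ 2 + 1)) + 1 := by rw [hu]; ring
      omega
    rw [e1, e2] at h5
    have h6 : 0 < r ^ 12 * u ^ 2 := by positivity
    refine Nat.eq_of_mul_eq_mul_left h6 ?_
    rw [h5]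
    ring
  have hS' : P.S = {s, t} := by rw [hS]; exact Set.pair_comm _ _
  refine ⟨⟨_, psiA hS' hst h16 (inv_T s) (inv_T t) fun g => ⟨g, fun _ => rfl⟩⟩,
    psi_mem hM hS' hst h16 (by rw [hidx, hqs, hqt]) Nat.prime_three ?_ _ fun g => rfl, ?_⟩
  · rw [hqt, hq, Nat.dvd_iff_mod_eq_zero, Nat.add_mod, Nat.mul_mod, Nat.pow_mod]
    norm_num
  · have h1 := psi_one hS' hst h16 (A := ↥(twistedF4 K (2 ^ m)))
    rw [hidx, hqs, hqt, hd] at h1
    rw [Blocks.Basic.charDegree_of_eq (h1.trans (Complex.ofReal_natCast _))]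
    exact Nat.dvd_of_factorization_pos (hv.trans_ne one_ne_zero)

variable {p : ℕ} [hp : Fact p.Prime] {M : Ideal AlgInt} {K S : Type} [Group K] [Finite K] [Group S] {σ : K →* S}
  {B : Set (IrrCharacter K)} {D : Subgroup K}

/-- the block is the principal block -/
theorem eq_prin (H : Hyp p M B D σ) (hc : Nat.card (center K) = 1) (h : RegTriv p (D.map σ)) : B = principalBlock M K := by
  have := Blocks.Local.isPrime_of_isPModular H.hM
  obtain ⟨ψ, hψ, -⟩ := H.max h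
  let ε : IrrCharacter K := ⟨fun _ => 1, by simpa using Characters.Linear.isIrrCharacter_hom (1 : K →* ℂˣ)⟩
  have h1 : ε ∈ B := H.mem_of_ov h hψ (fun z hz => by
      rw [H.ker, card_eq_one.1 hc, mem_bot] at hz
      rw [hz, div_self (Characters.Core.isIrr_apply_one_ne_zero ε.2), div_self (Characters.Core.isIrr_apply_one_ne_zero ψ.2)])
    (top_of_not_dvd H.hM (by
      rw [Blocks.Basic.charDegree_of_eq (n := 1) (by simp [ε]), Nat.dvd_one]
      exact hp.out.ne_one))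
  exact Set.ext fun χ => ⟨fun h2 => Blocks.Basic.isPBlock_sameBlock H.hB h1 h2,
    fun h2 => Blocks.Basic.isPBlock_mem_of_sameBlock H.hB h1 h2⟩

theorem rt_tf4 {F : Type} [Field F] [Fintype F] {m : ℕ} (hF : Fintype.card F = 2 ^ (2 * m + 1)) (hm : 1 ≤ m)
    {E : Subgroup ↥(twistedF4 F (2 ^ m))} (hE : IsPGroup 3 E) (hn : ¬ IsMulCommutative E) : RegTriv 3 E := fun y hy hr => by
  by_contra h1
  have hfin : Finite ↥(twistedF4 F (2 ^ m)) := inferInstance
  obtain ⟨s, hs, hd⟩ := Nat.exists_prime_and_dvd (mt orderOf_eq_one_iff.1 h1)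
  have h2 : orderOf (y ^ (orderOf y / s)) = s := orderOf_pow_orderOf_div (orderOf_pos y).ne' hd
  have h3 := pow_mem (mem_centralizer_iff.2 hy : y ∈ centralizer (E : Set ↥(twistedF4 F (2 ^ m)))) (orderOf y / s)
  by_cases hs2 : s = 2
  · exact hn (BHZ.Exc.TF.comm_of_two hF hm hE (hs2 ▸ h2) h3)
  · exact hn (BHZ.Exc.TF.comm_of_five hF hE hs (hs.five_le_of_ne_two_of_ne_three hs2 fun h => hr (h ▸ hd)) h2 h3)

theorem tf4_of {X : Bad} (h : ∀ (F : Type) [Field F] [Fintype F] (m : ℕ), 1 ≤ m → Fintype.card F = 2 ^ (2 * m + 1) →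
    Cov X 1 3 ↥(twistedF4 F (2 ^ m))) : For (RowX X) CTf4 := by
  rintro p hp S _ _ _ - ⟨h2, hS⟩
  by_cases h3 : p = 3
  · subst h3
    obtain ⟨F, _, _, m, hm, hF, ⟨e⟩⟩ := hS
    exact RowX.of_equiv e (row_of_cov (S2114.result hm hF) fun n hn _ _ => Nat.dvd_one.1 hn ▸ h F m hm hF)
  · exact row_of_ab fun _ hP => H42.Tw.abelian_of_iso2F4 hS (hp.out.five_le_of_ne_two_of_ne_three h2 h3) hP

theorem sz : For RowP CSz := sz_of XP

theorem ree : For RowP CRee := ree_of XP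

theorem tf4 : For RowP CTf4 := tf4_of fun F _ _ m hm hF K _ _ σ M B D H hc => by
  have h3 : Fact (Nat.Prime 3) := ⟨Nat.prime_three⟩
  have h1 := rt_tf4 hF hm (H.pg.map σ) H.nab_map
  obtain ⟨ψ, h4, h5⟩ := H.max h1
  obtain ⟨χ, h6, h7⟩ := prin hF H.hM
  let e := MulEquiv.ofBijective σ ⟨(MonoidHom.ker_eq_bot_iff σ).1 (H.ker.trans (card_eq_one.1 hc)), H.surj⟩
  exact not_XP_of (eq_prin H hc h1 ▸ H700.PrinExt.mapIrr_mem e h6) h4 (by rwa [H700.PrinExt.charDegree_mapIrr]) h5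

theorem szT : For RowT CSz := sz_of XT

theorem reeT : For RowT CRee := ree_of XT

end Cfsg.Agent.BZ.X2
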