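import Cfsg.Agent.BZ.X2.Rows
import Cfsg.Agent.BZ.X.One

/-!
# BZ: the row `RowT` of the large Ree groups in cross characteristic (helper20)
-/

set_option autoImplicit false

namespace Cfsg.Agent.BZ.X2

open Cfsg Cfsg.Agent.KM

theorem tf4T : For RowT CTf4 :=
  have : Fact (Nat.Prime 3) := ⟨Nat.prime_three⟩
  tf4_of (X := XT) fun _ _ _ _ hm hF => X.One.one_xt fun D hD =>
    (em (IsMulCommutative D)).symm.imp_left (rt_tf4 hF hm hD.pg)

end Cfsg.Agent.BZ.X2
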